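import Groth.Agent.L20.SchDesc.AffineReduce
import Groth.Agent.L27.ProperDescent.Main
import Groth.Prelude.Def_FEt
import Groth.Agent.L23.Chow.SchemeSurj
import Mathlib.AlgebraicGeometry.Morphisms.Finite

/-!
Finite etale covers of two closed subschemes covering a scheme, identified on the intersection, glue.
-/

set_option autoImplicit false
set_option linter.style.haveILetI false
set_option backward.isDefEq.respectTransparency.types false
universe u

open CategoryTheory CategoryTheory.Limits AlgebraicGeometry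

noncomputable section

namespace Groth.L15.CurveGlue

/-- Index set of two pieces. -/
abbrev Two : Type u := ULift.{u} Bool

variable {X Y Z : Scheme.{u}} (a : X ⟶ Z) (b : Y ⟶ Z)

/-- The two pieces. -/
abbrev part (X Y : Scheme.{u}) : Two.{u} → Scheme.{u}
  | ⟨true⟩ => X
  | ⟨false⟩ => Y

/-- The maps of the two pieces. -/
abbrev partMap : ∀ i, part X Y i ⟶ Z
  | ⟨true⟩ => a
  | ⟨false⟩ => b

variable (EX : Over X) (EY : Over Y)

/-- The schemes over the two pieces. -/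
abbrev partObj : ∀ i, Over (part X Y i)
  | ⟨true⟩ => EX
  | ⟨false⟩ => EY

/-- Lifts over equal points. -/
def liftsCast {W T : Scheme.{u}} (E : Over W) {x x' : T ⟶ W} (e : x = x') :
    Desc.Lifts E x ≃ Desc.Lifts E x' where
  toFun v := ⟨v.1, v.2.trans e⟩
  invFun v := ⟨v.1, v.2.trans e.symm⟩
  left_inv _ := rfl
  right_inv _ := rfl

variable {EX EY} (θ : pullback EX.hom (pullback.fst a b) ≅ pullback EY.hom (pullback.snd a b))
  (hθ : θ.hom ≫ pullback.snd EY.hom (pullback.snd a b) = pullback.snd EX.hom (pullback.fst a b))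

/-- Lifts through an isomorphism over the base. -/
def liftsIso {W T : Scheme.{u}} {E E' : Over W} (e : E.left ≅ E'.left) (he : e.hom ≫ E'.hom = E.hom)
    (x : T ⟶ W) : Desc.Lifts E x ≃ Desc.Lifts E' x where
  toFun v := ⟨v.1 ≫ e.hom, (Category.assoc _ _ _).trans ((congrArg (v.1 ≫ ·) he).trans v.2)⟩
  invFun v := ⟨v.1 ≫ e.inv, (Category.assoc _ _ _).trans
    ((congrArg (v.1 ≫ ·) ((Iso.inv_comp_eq e).2 he.symm)).trans v.2)⟩
  left_inv v := Subtype.ext ((Category.assoc _ _ _).trans ((congrArg (v.1 ≫ ·) e.hom_inv_id).trans (Category.comp_id _)))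
  right_inv v := Subtype.ext ((Category.assoc _ _ _).trans ((congrArg (v.1 ≫ ·) e.inv_hom_id).trans (Category.comp_id _)))

/-- Moving a point from the first piece to the second. -/
def move {T : Scheme.{u}} (x₀ : T ⟶ X) (x₁ : T ⟶ Y) (h : x₀ ≫ a = x₁ ≫ b) :
    Desc.Lifts EX x₀ ≃ Desc.Lifts EY x₁ :=
  (liftsCast EX (pullback.lift_fst x₀ x₁ h).symm).trans
    (((Desc.liftsPullbackEquiv EX (pullback.fst a b) (pullback.lift x₀ x₁ h)).symm.trans
      (liftsIso (E := Over.mk (pullback.snd EX.hom (pullback.fst a b)))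
        (E' := Over.mk (pullback.snd EY.hom (pullback.snd a b))) θ hθ (pullback.lift x₀ x₁ h))).trans
    ((Desc.liftsPullbackEquiv EY (pullback.snd a b) (pullback.lift x₀ x₁ h)).trans
      (liftsCast EY (pullback.lift_snd x₀ x₁ h))))

theorem move_val {T : Scheme.{u}} (x₀ : T ⟶ X) (x₁ : T ⟶ Y) (h : x₀ ≫ a = x₁ ≫ b)
    (v : Desc.Lifts EX x₀) :
    (move a b θ hθ x₀ x₁ h v).1 =
      pullback.lift v.1 (pullback.lift x₀ x₁ h) (v.2.trans (pullback.lift_fst _ _ _).symm) ≫ θ.hom ≫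
        pullback.fst EY.hom (pullback.snd a b) :=
  Category.assoc _ _ _

theorem move_natural {T T' : Scheme.{u}} (g : T' ⟶ T) (x₀ : T ⟶ X) (x₁ : T ⟶ Y)
    (h : x₀ ≫ a = x₁ ≫ b) (y₀ : T' ⟶ X) (y₁ : T' ⟶ Y) (h₀ : g ≫ x₀ = y₀) (h₁ : g ≫ x₁ = y₁)
    (h' : y₀ ≫ a = y₁ ≫ b) (v : Desc.Lifts EX x₀) (v' : Desc.Lifts EX y₀) (hv : v'.1 = g ≫ v.1) :
    (move a b θ hθ y₀ y₁ h' v').1 = g ≫ (move a b θ hθ x₀ x₁ h v).1 := by
  rw [move_val, move_val]
  simp only [← Category.assoc]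
  congr 2
  apply pullback.hom_ext
  · exact (pullback.lift_fst _ _ _).trans (hv.trans
      (((Category.assoc _ _ _).trans (congrArg (g ≫ ·) (pullback.lift_fst _ _ _))).symm))
  · refine (pullback.lift_snd _ _ _).trans
      (Eq.trans ?_ (((Category.assoc _ _ _).trans (congrArg (g ≫ ·) (pullback.lift_snd _ _ _))).symm))
    apply pullback.hom_ext
    · exact (pullback.lift_fst _ _ _).trans (h₀.symm.trans
        (((Category.assoc _ _ _).trans (congrArg (g ≫ ·) (pullback.lift_fst _ _ _))).symm))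
    · exact (pullback.lift_snd _ _ _).trans (h₁.symm.trans
        (((Category.assoc _ _ _).trans (congrArg (g ≫ ·) (pullback.lift_snd _ _ _))).symm))

theorem move_symm_natural {T T' : Scheme.{u}} (g : T' ⟶ T) (x₀ : T ⟶ X) (x₁ : T ⟶ Y)
    (h : x₀ ≫ a = x₁ ≫ b) (y₀ : T' ⟶ X) (y₁ : T' ⟶ Y) (h₀ : g ≫ x₀ = y₀) (h₁ : g ≫ x₁ = y₁)
    (h' : y₀ ≫ a = y₁ ≫ b) (v : Desc.Lifts EY x₁) (v' : Desc.Lifts EY y₁) (hv : v'.1 = g ≫ v.1) :
    ((move a b θ hθ y₀ y₁ h').symm v').1 = g ≫ ((move a b θ hθ x₀ x₁ h).symm v).1 := by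
  let w : Desc.Lifts EX y₀ := ⟨g ≫ ((move a b θ hθ x₀ x₁ h).symm v).1, by
    rw [Category.assoc, ((move a b θ hθ x₀ x₁ h).symm v).2, h₀]⟩
  have e : (move a b θ hθ y₀ y₁ h').symm v' = w := by
    rw [Equiv.symm_apply_eq]
    refine Subtype.ext ?_
    rw [move_natural a b θ hθ g x₀ x₁ h y₀ y₁ h₀ h₁ h' _ w rfl, Equiv.apply_symm_apply, hv]
  rw [e]

variable [Mono a] [Mono b]

/-- The bijections of the glueing datum. -/
def phi {T : Scheme.{u}} : ∀ {i j : Two.{u}} (x₀ : T ⟶ part X Y i) (x₁ : T ⟶ part X Y j),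
    x₀ ≫ partMap a b i = x₁ ≫ partMap a b j →
      (Desc.Lifts (partObj EX EY i) x₀ ≃ Desc.Lifts (partObj EX EY j) x₁)
  | ⟨true⟩, ⟨true⟩, _, _, h => liftsCast EX ((cancel_mono a).1 h)
  | ⟨false⟩, ⟨false⟩, _, _, h => liftsCast EY ((cancel_mono b).1 h)
  | ⟨true⟩, ⟨false⟩, x₀, x₁, h => move a b θ hθ x₀ x₁ h
  | ⟨false⟩, ⟨true⟩, x₀, x₁, h => (move a b θ hθ x₁ x₀ h.symm).symm

/-- The glueing datum. -/
def datum : Desc.SchDDFam (partMap a b) where
  obj := partObj EX EY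
  φ _ _ _ := phi a b θ hθ
  φ_natural := by
    rintro T T' g ⟨_ | _⟩ ⟨_ | _⟩ x₀ x₁ h y₀ y₁ h₀ h₁ h' v v' hv
    · exact hv
    · exact move_symm_natural a b θ hθ g x₁ x₀ h.symm y₁ y₀ h₁ h₀ h'.symm v v' hv
    · exact move_natural a b θ hθ g x₀ x₁ h y₀ y₁ h₀ h₁ h' v v' hv
    · exact hv
  φ_self := by
    rintro T ⟨_ | _⟩ x v <;> rfl
  φ_comp := by
    rintro T ⟨_ | _⟩ ⟨_ | _⟩ ⟨_ | _⟩ x₀ x₁ x₂ h₀₁ h₁₂ v
    · rfl
    · obtain rfl : x₀ = x₁ := (cancel_mono b).1 h₀₁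
      rfl
    · obtain rfl : x₀ = x₂ := (cancel_mono b).1 (h₀₁.trans h₁₂)
      exact (move a b θ hθ x₁ x₀ h₁₂).apply_symm_apply v
    · obtain rfl : x₁ = x₂ := (cancel_mono a).1 h₁₂
      rfl
    · obtain rfl : x₁ = x₂ := (cancel_mono b).1 h₁₂
      rfl
    · obtain rfl : x₀ = x₂ := (cancel_mono a).1 (h₀₁.trans h₁₂)
      exact (move a b θ hθ x₀ x₁ h₀₁).symm_apply_apply v
    · obtain rfl : x₀ = x₁ := (cancel_mono a).1 h₀₁
      rfl
    · rfl

end Groth.L15.CurveGlue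

namespace Groth.L15.CurveGlue

open Groth.L20.SchDesc

variable {X Y Z : Scheme.{u}}

/-- Covers of two closed pieces agreeing on the intersection come from a cover of the whole. -/
theorem exists_glue [IsLocallyNoetherian Z] (a : X ⟶ Z) (b : Y ⟶ Z) [IsClosedImmersion a]
    [IsClosedImmersion b] (hcov : ∀ z : Z, z ∈ Set.range a ∨ z ∈ Set.range b)
    (EX : FEt.Cat X) (EY : FEt.Cat Y)
    (θ : pullback EX.hom (pullback.fst a b) ≅ pullback EY.hom (pullback.snd a b))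
    (hθ : θ.hom ≫ pullback.snd EY.hom (pullback.snd a b) = pullback.snd EX.hom (pullback.fst a b)) :
    ∃ U : FEt.Cat Z, Nonempty ((FEt.restrict a).obj U ≅ EX) := by
  let D := datum a b (EX := EX.toComma) (EY := EY.toComma) θ hθ
  let g : (∐ part X Y) ⟶ Z := Limits.Sigma.desc (partMap a b)
  have hfin : ∀ i, IsFinite (partMap a b i) := by
    rintro ⟨_ | _⟩
    · exact inferInstanceAs (IsFinite b)
    · exact inferInstanceAs (IsFinite a)
  haveI : Finite Two.{u} := inferInstance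
  haveI := hfin
  haveI : IsFinite g := Groth.L23.Chow.isFinite_sigmaDesc (partMap a b)
  haveI : Surjective g := ⟨fun z => by
    rcases hcov z with ⟨x, rfl⟩ | ⟨y, rfl⟩
    · exact ⟨Limits.Sigma.ι (part X Y) ⟨true⟩ x, by rw [← Scheme.Hom.comp_apply, Limits.Sigma.ι_desc]⟩
    · exact ⟨Limits.Sigma.ι (part X Y) ⟨false⟩ y, by rw [← Scheme.Hom.comp_apply, Limits.Sigma.ι_desc]⟩⟩
  haveI : LocallyOfFinitePresentation g := inferInstance
  have hP : ∀ i, (FEt.prop.{u}) (partObj EX.toComma EY.toComma i).hom := by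
    rintro ⟨_ | _⟩
    · exact EY.prop
    · exact EX.prop
  haveI : IsFinite (famHom D) := sigmaMap_of _ _ fun i => (hP i).1
  haveI : AlgebraicGeometry.Etale (famHom D) := sigmaMap_of _ _ fun i => (hP i).2
  let D₁ := toSchDD (famPre D)
  haveI : IsFinite D₁.obj.hom := inferInstanceAs (IsFinite (famHom D))
  haveI : AlgebraicGeometry.Etale D₁.obj.hom := inferInstanceAs (AlgebraicGeometry.Etale (famHom D))
  obtain ⟨U, hUf, hUe, ⟨e⟩⟩ := Groth.L27.ProperDescent.exists_finite_etale D₁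
  let UU : FEt.Cat Z := MorphismProperty.Over.mk ⊤ U.hom ⟨hUf, hUe⟩
  -- the comparison on the sum, restricted to the first piece
  let η : pullback g U.hom ≅ famTot D :=
    { hom := e.hom.hom.left
      inv := e.inv.hom.left
      hom_inv_id := congrArg (fun m : Desc.SchDD.Hom _ _ => m.hom.left) e.hom_inv_id
      inv_hom_id := congrArg (fun m : Desc.SchDD.Hom _ _ => m.hom.left) e.inv_hom_id }
  have hηw : η.hom ≫ famHom D = pullback.fst g U.hom := Over.w e.hom.hom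
  have h1 : IsPullback (famHom D) (η.inv ≫ pullback.snd g U.hom) g U.hom :=
    IsPullback.of_iso (IsPullback.of_hasPullback g U.hom) η (Iso.refl _) (Iso.refl _) (Iso.refl _)
      (by simp [hηw]) (by simp) (by simp) (by simp)
  have h2 : IsPullback EX.hom (famι D ⟨true⟩ ≫ η.inv ≫ pullback.snd g U.hom)
      (Limits.Sigma.ι (part X Y) ⟨true⟩ ≫ g) U.hom :=
    (Groth.L20.SchDesc.isPullback_sigmaMap (fun i => (D.obj i).hom) ⟨true⟩).paste_vert h1
  rw [show Limits.Sigma.ι (part X Y) ⟨true⟩ ≫ g = a from Limits.Sigma.ι_desc _ _] at h2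
  refine ⟨UU, ⟨MorphismProperty.Over.isoMk h2.flip.isoPullback.symm ?_⟩⟩
  exact h2.flip.isoPullback_inv_snd

end Groth.L15.CurveGlue
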