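import Groth.Agent.L27.Deg.FibCard
import Groth.Agent.L27.TopInv.Sections
import Groth.Agent.L27.FEtGal.Split
import Mathlib.AlgebraicGeometry.Morphisms.FormallyUnramified
import Mathlib.FieldTheory.IsSepClosed

/-!
Finite etale covers of a discrete scheme with separably closed residue fields are trivial.
-/

set_option autoImplicit false
set_option linter.style.haveILetI false
set_option backward.isDefEq.respectTransparency.types false
universe u

open CategoryTheory CategoryTheory.Limits AlgebraicGeometry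

noncomputable section

namespace Groth.L15.CurveGlue

variable {P : Scheme.{u}} [DiscreteTopology P]

theorem discreteTopology_source {Q : Scheme.{u}} (π : Q ⟶ P) [LocallyQuasiFinite π] :
    DiscreteTopology Q := by
  refine discreteTopology_iff_isOpen_singleton.2 fun q => ?_
  haveI := (π.isDiscrete_preimage_singleton (π q)).to_subtype
  have hF : IsOpen (π ⁻¹' {π q}) := (isOpen_discrete _).preimage π.continuous
  have h := hF.isOpenMap_subtype_val ({⟨q, rfl⟩} : Set ↥(π ⁻¹' {π q})) (isOpen_discrete _)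
  rwa [Set.image_singleton] at h

/-- An open on which an etale morphism is injective embeds, residue fields downstairs being separably
closed. -/
theorem isOpenImmersion_of_injOn {Q : Scheme.{u}} (π : Q ⟶ P) [AlgebraicGeometry.Etale π] [LocallyQuasiFinite π]
    (hP : ∀ p : P, IsSepClosed (P.residueField p)) (T : Q.Opens) (hT : Set.InjOn π T) :
    IsOpenImmersion (T.ι ≫ π) := by
  haveI : AlgebraicGeometry.Etale (T.ι ≫ π) := inferInstance
  haveI : UniversallyInjective (T.ι ≫ π) := by
    have key : UniversallyInjective (T.ι ≫ π) ↔ Function.Injective (T.ι ≫ π) ∧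
        ∀ x, ((T.ι ≫ π).residueFieldMap x).hom.IsPurelyInseparable :=
      (tfae_universallyInjective (T.ι ≫ π)).out 0 2
    refine key.2 ⟨?_, fun x => ?_⟩
    · intro a b hab
      exact Subtype.ext (hT a.2 b.2 ((Scheme.Hom.comp_apply _ _ _).symm.trans (hab.trans (Scheme.Hom.comp_apply _ _ _))))
    · letI := ((T.ι ≫ π).residueFieldMap x).hom.toAlgebra
      haveI := hP ((T.ι ≫ π) x)
      haveI : Algebra.IsSeparable (P.residueField ((T.ι ≫ π) x)) ((T : Scheme.{u}).residueField x) :=
        inferInstance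
      show IsPurelyInseparable (P.residueField ((T.ι ≫ π) x)) ((T : Scheme.{u}).residueField x)
      exact ⟨Algebra.IsSeparable.isAlgebraic _ _ |>.isIntegral,
        fun y _ => IsSepClosed.algebraMap_surjective _ _ y⟩
  exact Groth.L27.TopInv.isOpenImmersion_of_etale_univInjective _

/-- A geometric fibre maps bijectively to the fibre. -/
theorem card_fibre_eq_finrank (hP : ∀ p : P, IsSepClosed (P.residueField p)) (Z : FEt.Cat P) (p : P) :
    Nat.card {q : Z.left // Z.hom q = p} = (Groth.L27.FEtGal.hm Z).finrank p := by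
  let Ω := AlgebraicClosure (P.residueField p)
  let ξ : Spec (CommRingCat.of Ω) ⟶ P :=
    Spec.map (CommRingCat.ofHom (algebraMap (P.residueField p) Ω)) ≫ P.fromSpecResidueField p
  have hξ : ∀ o, ξ o = p := fun o => Scheme.fromSpecResidueField_apply p _
  rw [← hξ default, ← Groth.L27.Deg.card_fiber ξ Z, hξ default]
  let π := Groth.L27.FEtGal.hm Z
  haveI : IsFinite π := Z.prop.1
  haveI : AlgebraicGeometry.Etale π := Z.prop.2
  haveI := discreteTopology_source π
  symm
  refine Nat.card_eq_of_bijective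
    (fun s : FEt.fiberObj ξ Z => (⟨s.1 default, by
      rw [← Scheme.Hom.comp_apply, s.2]; exact hξ _⟩ : {q : Z.left // Z.hom q = p}))
    ⟨fun s t hst => ?_, fun q => ?_⟩
  · let T : Z.left.Opens := ⟨{s.1 default}, isOpen_discrete _⟩
    haveI := isOpenImmersion_of_injOn π hP T (fun a ha b hb _ => ha.trans hb.symm)
    have hs : Set.range s.1 ⊆ Set.range T.ι := by
      rintro _ ⟨o, rfl⟩
      obtain rfl : o = default := Subsingleton.elim _ _
      rw [Scheme.Opens.range_ι]; rfl
    have ht : Set.range t.1 ⊆ Set.range T.ι := by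
      rintro _ ⟨o, rfl⟩
      obtain rfl : o = default := Subsingleton.elim _ _
      rw [Scheme.Opens.range_ι]
      exact (congrArg Subtype.val hst).symm
    refine Subtype.ext ?_
    rw [← IsOpenImmersion.lift_fac T.ι s.1 hs, ← IsOpenImmersion.lift_fac T.ι t.1 ht]
    congr 1
    rw [← cancel_mono (T.ι ≫ π), ← Category.assoc, ← Category.assoc, IsOpenImmersion.lift_fac,
      IsOpenImmersion.lift_fac]
    exact s.2.trans t.2.symm
  · obtain ⟨s, hs, hsq⟩ := Groth.L27.FEtGal.exists_fiber_pt π ξ q.1 (q.2.trans (hξ _).symm)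
    exact ⟨⟨s, hs⟩, Subtype.ext hsq⟩

/-- A cover of constant rank is a sum of copies of the base. -/
theorem exists_trivialization (hP : ∀ p : P, IsSepClosed (P.residueField p)) (Z : FEt.Cat P) {n : ℕ}
    (hn : ∀ p, (Groth.L27.FEtGal.hm Z).finrank p = n) :
    ∃ θ : (∐ fun _ : ULift.{u} (Fin n) => P) ≅ Z.left,
      θ.hom ≫ Z.hom = Sigma.desc fun _ => 𝟙 P := by
  let π := Groth.L27.FEtGal.hm Z
  haveI : IsFinite π := Z.prop.1
  haveI : AlgebraicGeometry.Etale π := Z.prop.2
  haveI := discreteTopology_source π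
  have hfin : ∀ p : P, Finite {q : Z.left // Z.hom q = p} := fun p =>
    (π.finite_preimage_singleton p).to_subtype
  have he : ∀ p : P, Nonempty (ULift.{u} (Fin n) ≃ {q : Z.left // Z.hom q = p}) := fun p => by
    haveI := hfin p
    exact ⟨Equiv.ulift.trans ((Finite.equivFinOfCardEq
      ((card_fibre_eq_finrank hP Z p).trans (hn p))).symm)⟩
  let e := fun p => (he p).some
  let T : ULift.{u} (Fin n) → Z.left.Opens := fun k => ⟨Set.range fun p => (e p k).1, isOpen_discrete _⟩
  have hπT : ∀ k p, π (e p k).1 = p := fun k p => (e p k).2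
  have hinj : ∀ k, Set.InjOn π (T k) := by
    rintro k _ ⟨p, rfl⟩ _ ⟨p', rfl⟩ h
    obtain rfl : p = p' := (hπT k p).symm.trans (h.trans (hπT k p'))
    rfl
  have hsec : ∀ k, ∃ s : P ⟶ Z.left, s ≫ π = 𝟙 P ∧ Set.range s = (T k : Set Z.left) := fun k => by
    haveI := isOpenImmersion_of_injOn π hP (T k) (hinj k)
    haveI : Surjective ((T k).ι ≫ π) := ⟨fun p => ⟨⟨(e p k).1, p, rfl⟩, hπT k p⟩⟩
    obtain ⟨s, hs, -⟩ := Groth.L27.TopInv.existsUnique_section π (T k)
    exact ⟨s, hs⟩
  choose s hs hr using hsec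
  haveI : ∀ k, IsOpenImmersion (s k) := fun k =>
    Groth.L27.TopInv.isOpenImmersion_section π (s k) (hs k)
  haveI : IsOpenImmersion (Sigma.desc s) := isOpenImmersion_sigmaDesc _ s fun k l hkl => by
    show Disjoint (Set.range (s k)) (Set.range (s l))
    rw [hr, hr, Set.disjoint_left]
    rintro _ ⟨p, rfl⟩ ⟨p', hp'⟩
    have hpp : p' = p := (hπT l p').symm.trans ((congrArg π hp').trans (hπT k p))
    subst hpp
    exact hkl ((e p').injective (Subtype.ext hp')).symm
  haveI : Surjective (Sigma.desc s) := ⟨fun q => by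
    obtain ⟨k, hk⟩ := (e (π q)).surjective ⟨q, rfl⟩
    obtain ⟨p, hp⟩ : q ∈ Set.range (s k) := hr k ▸ ⟨π q, congrArg Subtype.val hk⟩
    exact ⟨Sigma.ι (fun _ : ULift.{u} (Fin n) => P) k p,
      by rw [← Scheme.Hom.comp_apply, Sigma.ι_desc]; exact hp⟩⟩
  haveI : IsIso (Sigma.desc s) := (isIso_iff_isOpenImmersion_and_surjective _).2 ⟨inferInstance, inferInstance⟩
  refine ⟨asIso (Sigma.desc s), Sigma.hom_ext _ _ fun k => ?_⟩
  rw [asIso_hom, Sigma.ι_desc_assoc, Sigma.ι_desc]
  exact hs k

end Groth.L15.CurveGlue
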