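import Groth.Agent.L15.CurveGlue.Datum
import Groth.Agent.L15.CurveGlue.Trivial
import Groth.Agent.L07.PicDimOne
import Groth.Agent.L27.FEtGal.SplitFinite
import Mathlib.AlgebraicGeometry.Noetherian
import Mathlib.AlgebraicGeometry.IdealSheaf.Subscheme
import Mathlib.FieldTheory.PurelyInseparable.Basic

/-!
Finite etale covers of a connected closed subscheme of a curve over a separably closed field extend.
-/

set_option autoImplicit false
set_option linter.style.haveILetI false
set_option backward.isDefEq.respectTransparency.types false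
universe u

open CategoryTheory CategoryTheory.Limits AlgebraicGeometry TopologicalSpace

noncomputable section

namespace Groth.L15.CurveGlue

open Groth.L22.FinAff

theorem isSepClosed_residueField_of_isClosed {k : Type u} [Field k] [IsSepClosed k] {X : Scheme.{u}}
    (f : X ⟶ Spec (CommRingCat.of k)) [LocallyOfFiniteType f] (x : X) (hx : IsClosed ({x} : Set X)) :
    IsSepClosed (X.residueField x) := by
  haveI : IsFinite (X.fromSpecResidueField x ≫ f) := by
    rw [isClosed_singleton_iff_isClosedImmersion] at hx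
    rw [isFinite_iff_locallyOfFiniteType_of_jacobsonSpace]
    infer_instance
  have hint : (Spec.preimage (X.fromSpecResidueField x ≫ f)).hom.IsIntegral := by
    rw [← IsIntegralHom.SpecMap_iff, Spec.map_preimage]
    infer_instance
  letI : Algebra k (X.residueField x) := (Spec.preimage (X.fromSpecResidueField x ≫ f)).hom.toAlgebra
  haveI : Algebra.IsIntegral k (X.residueField x) := ⟨hint⟩
  exact Algebra.IsAlgebraic.isSepClosed (F := k)

/-- A locally Noetherian scheme all of whose points are closed is discrete. -/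
theorem discreteTopology_of_closed_points {P : Scheme.{u}} [IsLocallyNoetherian P]
    (h : ∀ p : P, IsClosed ({p} : Set P)) : DiscreteTopology P := by
  refine discreteTopology_iff_isOpen_singleton.2 fun p => ?_
  obtain ⟨W, hW, hpW, -⟩ := exists_isAffineOpen_mem_and_subset (Opens.mem_top p)
  haveI : IsNoetherianRing Γ(P, W) := IsLocallyNoetherian.component_noetherian ⟨W, hW⟩
  haveI : NoetherianSpace (W : Scheme.{u}) := noetherianSpace_of_isAffineOpen W hW
  haveI : T1Space (W : Scheme.{u}) := ⟨fun w => by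
    have : ({w} : Set (W : Scheme.{u})) = W.ι ⁻¹' {W.ι w} := by
      ext v
      exact ⟨fun hv => congrArg W.ι hv, fun hv => W.ι.isOpenEmbedding.injective hv⟩
    rw [this]
    exact (h _).preimage W.ι.continuous⟩
  have hfin : (Set.univ : Set (W : Scheme.{u})).Finite := by
    obtain ⟨S, hSfin, hSc, hSirr, hSU⟩ :=
      NoetherianSpace.exists_finite_set_isClosed_irreducible (α := (W : Scheme.{u})) isClosed_univ
    rw [hSU]
    refine hSfin.sUnion fun Z hZ => ?_
    obtain ⟨g, hg⟩ := QuasiSober.sober (hSirr Z hZ) (hSc Z hZ)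
    have : Z = {g} := hg.def.symm.trans (closure_singleton (x := g))
    rw [this]
    exact Set.finite_singleton g
  have hO : IsOpen ({⟨p, hpW⟩} : Set (W : Scheme.{u})) := by
    have : ({⟨p, hpW⟩} : Set (W : Scheme.{u})) = ((Set.univ \ {⟨p, hpW⟩}) : Set (W : Scheme.{u}))ᶜ := by
      ext v; simp
    rw [this]
    exact (hfin.subset Set.sdiff_subset).isClosed.isOpen_compl
  have := W.ι.isOpenEmbedding.isOpenMap _ hO
  rwa [Set.image_singleton] at this

/-- A generic point of a component in a closed set is not in the closure of the complement. -/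
theorem notMem_closure_compl_of_isGen {Z : Scheme.{u}} [IsLocallyNoetherian Z] {z : Z} (hz : IsGen z)
    {C : Set Z} (hC : IsClosed C) (hzC : z ∈ C) : z ∉ closure Cᶜ := by
  obtain ⟨W, hW, hzW, -⟩ := exists_isAffineOpen_mem_and_subset (Opens.mem_top z)
  haveI : IsNoetherianRing Γ(Z, W) := IsLocallyNoetherian.component_noetherian ⟨W, hW⟩
  haveI : NoetherianSpace (W : Scheme.{u}) := noetherianSpace_of_isAffineOpen W hW
  let w : (W : Scheme.{u}) := ⟨z, hzW⟩
  have hw : IsGen w := fun v hv =>
    W.ι.isOpenEmbedding.injective (hz _ (hv.map W.ι.continuous))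
  let B : Set (W : Scheme.{u}) := ⋃ T ∈ irreducibleComponents (W : Scheme.{u}) \ {closure {w}}, T
  have hB : IsClosed B :=
    ((NoetherianSpace.finite_irreducibleComponents (α := (W : Scheme.{u}))).subset
      Set.sdiff_subset).isClosed_biUnion fun T hT => isClosed_of_mem_irreducibleComponents T hT.1
  have hwB : w ∉ B := by
    intro h
    obtain ⟨T, hT, hwT⟩ := Set.mem_iUnion₂.1 h
    have hle : closure {w} ⊆ T :=
      closure_minimal (Set.singleton_subset_iff.2 hwT) (isClosed_of_mem_irreducibleComponents T hT.1)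
    exact hT.2 (subset_antisymm ((closure_mem_of_isGen hw).2 hT.1.1 hle) hle)
  intro hcl
  obtain ⟨y, hy, hyC⟩ := mem_closure_iff.1 hcl _ (W.ι.isOpenEmbedding.isOpenMap _ hB.isOpen_compl)
    ⟨w, hwB, rfl⟩
  obtain ⟨v, hv, rfl⟩ := hy
  have hv' : v ∈ closure ({w} : Set (W : Scheme.{u})) := by
    by_contra hn
    exact hv (Set.mem_iUnion₂.2 ⟨irreducibleComponent v,
      ⟨irreducibleComponent_mem_irreducibleComponents v,
        fun he => hn ((Set.mem_singleton_iff.1 he) ▸ mem_irreducibleComponent)⟩,
      mem_irreducibleComponent⟩)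
  exact hyC (((specializes_iff_mem_closure.2 hv').map W.ι.continuous).mem_closed hC hzC)

theorem isFinite_fold {Y : Scheme.{u}} (n : ℕ) :
    IsFinite (Sigma.desc fun _ : ULift.{u} (Fin n) => 𝟙 Y) :=
  Groth.L23.Chow.isFinite_sigmaDesc _

theorem isPullback_fold {P Y : Scheme.{u}} {κ : Type u} (g : P ⟶ Y) :
    IsPullback (Sigma.desc fun k : κ => g ≫ Sigma.ι (fun _ : κ => Y) k) (Sigma.desc fun _ : κ => 𝟙 P)
      (Sigma.desc fun _ : κ => 𝟙 Y) g := by
  let d := Sigma.desc fun _ : κ => 𝟙 Y
  have hlim : ∀ k : κ, (g ≫ Sigma.ι (fun _ : κ => Y) k) ≫ d = 𝟙 P ≫ g := fun k => by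
    rw [Category.assoc, Sigma.ι_desc, Category.comp_id, Category.id_comp]
  let c : (∐ fun _ : κ => P) ⟶ pullback d g :=
    Sigma.desc fun k => pullback.lift (g ≫ Sigma.ι (fun _ : κ => Y) k) (𝟙 P) (hlim k)
  haveI : IsIso c := by
    haveI : ∀ k, IsOpenImmersion (pullback.lift (g ≫ Sigma.ι (fun _ : κ => Y) k) (𝟙 P) (hlim k)) := fun k => by
      haveI : AlgebraicGeometry.Etale d := Groth.L27.FEtGal.etale_foldId
      exact Groth.L27.TopInv.isOpenImmersion_section (pullback.snd d g) _ (pullback.lift_snd _ _ _)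
    haveI : IsOpenImmersion c := isOpenImmersion_sigmaDesc _ _ fun k l hkl => by
      rw [Function.onFun, Set.disjoint_left]
      rintro _ ⟨p, rfl⟩ ⟨p', hp'⟩
      have h := congrArg (fun z => pullback.fst d g z) hp'
      simp only [← Scheme.Hom.comp_apply, pullback.lift_fst] at h
      rw [Scheme.Hom.comp_apply, Scheme.Hom.comp_apply] at h
      exact hkl (Groth.L20.SchDesc.eq_of_sigmaι_eq h).symm
    haveI : Surjective c := ⟨fun z => by
      obtain ⟨k, y, hy⟩ := Groth.L20.SchDesc.exists_sigmaι_eq (pullback.fst d g z)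
      have hsq : IsPullback (pullback.fst d g) (pullback.snd d g) d g := IsPullback.of_hasPullback d g
      let p := pullback.snd d g z
      have hy' : y = g p := by
        rw [← Scheme.Hom.comp_apply, ← hsq.w, Scheme.Hom.comp_apply, ← hy, ← Scheme.Hom.comp_apply,
          Sigma.ι_desc]
        rfl
      let O : (pullback d g).Opens := pullback.fst d g ⁻¹ᵁ (Sigma.ι (fun _ : κ => Y) k).opensRange
      haveI : Mono (O.ι ≫ pullback.snd d g) := ⟨fun {T} u v huv => by
        rw [← cancel_mono O.ι]
        have hu : ∀ w : T ⟶ O, (w ≫ O.ι) ≫ pullback.fst d g =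
            ((w ≫ O.ι) ≫ pullback.snd d g) ≫ g ≫ Sigma.ι (fun _ : κ => Y) k := fun w => by
          have hr : Set.range ((w ≫ O.ι) ≫ pullback.fst d g) ⊆ Set.range (Sigma.ι (fun _ : κ => Y) k) := by
            rintro _ ⟨t, rfl⟩
            exact (w t).2
          have hl := IsOpenImmersion.lift_fac _ _ hr
          have hle : IsOpenImmersion.lift _ _ hr = ((w ≫ O.ι) ≫ pullback.snd d g) ≫ g := by
            rw [← Category.comp_id (IsOpenImmersion.lift _ _ hr),
              ← Sigma.ι_desc (fun _ : κ => 𝟙 Y) k, ← Category.assoc, hl, Category.assoc, pullback.condition,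
              ← Category.assoc]
          rw [← hl, hle, Category.assoc]
        apply pullback.hom_ext
        · rw [hu u, hu v, Category.assoc u, huv, ← Category.assoc v]
        · rw [Category.assoc, Category.assoc, huv]⟩
      have hzO : z ∈ O := ⟨y, hy⟩
      have hp : pullback.lift (g ≫ Sigma.ι (fun _ : κ => Y) k) (𝟙 P) (hlim k) p ∈ O :=
        ⟨g p, (congrArg (fun m : P ⟶ ∐ fun _ : κ => Y => m p) (pullback.lift_fst _ _ (hlim k))).symm⟩
      refine ⟨Sigma.ι (fun _ : κ => P) k p, ?_⟩
      rw [← Scheme.Hom.comp_apply, Sigma.ι_desc]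
      have hinj : Function.Injective (O.ι ≫ pullback.snd d g) := (O.ι ≫ pullback.snd d g).injective
      have := @hinj ⟨_, hp⟩ ⟨z, hzO⟩ (by
        exact congrArg (fun m : P ⟶ P => m p) (pullback.lift_snd _ _ (hlim k)))
      exact congrArg Subtype.val this⟩
    exact (isIso_iff_isOpenImmersion_and_surjective _).2 ⟨inferInstance, inferInstance⟩
  refine IsPullback.of_iso_pullback ⟨Sigma.hom_ext _ _ fun k => ?_⟩ (asIso c) ?_ ?_
  · simp only [Sigma.ι_desc_assoc, Category.assoc, Sigma.ι_desc, Category.comp_id, Category.id_comp]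
  · refine Sigma.hom_ext _ _ fun k => ?_
    rw [asIso_hom, Sigma.ι_desc_assoc, pullback.lift_fst, Sigma.ι_desc]
  · refine Sigma.hom_ext _ _ fun k => ?_
    rw [asIso_hom, Sigma.ι_desc_assoc, pullback.lift_snd, Sigma.ι_desc]

theorem exists_extension (k : Type u) [Field k] [IsSepClosed k] {Z X : Scheme.{u}}
    (a : Z ⟶ Spec (CommRingCat.of k)) [LocallyOfFiniteType a] (hdim : topologicalKrullDim Z ≤ 1)
    (i : X ⟶ Z) [IsClosedImmersion i] [ConnectedSpace X] (E : FEt.Cat X) :
    ∃ U : FEt.Cat Z, Nonempty ((FEt.restrict i).obj U ≅ E) := by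
  haveI : IsLocallyNoetherian Z := LocallyOfFiniteType.isLocallyNoetherian a
  let C : Closeds Z := ⟨closure (Set.range i)ᶜ, isClosed_closure⟩
  let I := Scheme.IdealSheafData.vanishingIdeal C
  let Y := I.subscheme
  let j : Y ⟶ Z := I.subschemeι
  have hj : Set.range j = (C : Set Z) := by
    rw [Scheme.IdealSheafData.range_subschemeι, Scheme.IdealSheafData.coe_support_vanishingIdeal]
  let P := pullback i j
  haveI : LocallyOfFiniteType ((pullback.fst i j ≫ i) ≫ a) := inferInstance
  haveI : IsLocallyNoetherian P := LocallyOfFiniteType.isLocallyNoetherian ((pullback.fst i j ≫ i) ≫ a)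
  have hclosed : ∀ p : P, IsClosed ({p} : Set P) := fun p => by
    let c := pullback.fst i j ≫ i
    have hc : IsClosed ({c p} : Set Z) := by
      refine Groth.L07.PicDimOne.isClosed_singleton_of_not_isGen hdim fun hgen => ?_
      refine notMem_closure_compl_of_isGen hgen i.isClosedEmbedding.isClosed_range ?_ ?_
      · exact ⟨pullback.fst i j p, (Scheme.Hom.comp_apply _ _ _).symm⟩
      · have : c p ∈ Set.range j := ⟨pullback.snd i j p, by
          rw [← Scheme.Hom.comp_apply, ← pullback.condition]⟩
        exact hj.le this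
    have : ({p} : Set P) = c ⁻¹' {c p} := by
      ext q
      exact ⟨fun hq => congrArg c hq, fun hq => c.isClosedEmbedding.injective hq⟩
    rw [this]
    exact hc.preimage c.continuous
  haveI : DiscreteTopology P := discreteTopology_of_closed_points hclosed
  have hP : ∀ p : P, IsSepClosed (P.residueField p) := fun p =>
    isSepClosed_residueField_of_isClosed ((pullback.fst i j ≫ i) ≫ a) p (hclosed p)
  haveI : IsFinite (Groth.L27.FEtGal.hm E) := E.prop.1
  haveI : AlgebraicGeometry.Etale (Groth.L27.FEtGal.hm E) := E.prop.2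
  obtain ⟨x₀⟩ := (inferInstance : Nonempty X)
  let n := (Groth.L27.FEtGal.hm E).finrank x₀
  have hconst : ∀ x, (Groth.L27.FEtGal.hm E).finrank x = n := fun x =>
    (Groth.L27.FEtGal.hm E).isLocallyConstant_finrank.apply_eq_of_preconnectedSpace x x₀
  let EY : FEt.Cat Y := MorphismProperty.Over.mk ⊤
    (Sigma.desc fun _ : ULift.{u} (Fin n) => 𝟙 Y) ⟨isFinite_fold n, Groth.L27.FEtGal.etale_foldId⟩
  let Z₁ := (FEt.restrict (pullback.fst i j)).obj E
  obtain ⟨θ₁, hθ₁⟩ := exists_trivialization hP Z₁ (n := n) fun p =>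
    (Scheme.Hom.finrank_pullback_snd (Groth.L27.FEtGal.hm E) (pullback.fst i j) p).trans (hconst _)
  -- the trivial cover restricts to the trivial cover
  have hb : IsPullback
      (Sigma.desc fun k : ULift.{u} (Fin n) => pullback.snd i j ≫ Sigma.ι (fun _ : ULift.{u} (Fin n) => Y) k)
      (Sigma.desc fun _ : ULift.{u} (Fin n) => 𝟙 P)
      (Sigma.desc fun _ : ULift.{u} (Fin n) => 𝟙 Y) (pullback.snd i j) := isPullback_fold _
  refine exists_glue i j (fun z => ?_) E EY ((θ₁.symm ≪≫ hb.isoPullback) :
    pullback E.hom (pullback.fst i j) ≅ pullback EY.hom (pullback.snd i j)) ?_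
  · by_cases hz : z ∈ Set.range i
    · exact Or.inl hz
    · exact Or.inr (hj.ge (subset_closure hz))
  · show (θ₁.inv ≫ hb.isoPullback.hom) ≫ pullback.snd EY.hom (pullback.snd i j) = _
    rw [Category.assoc]
    erw [hb.isoPullback_hom_snd, ← hθ₁, Iso.inv_hom_id_assoc]
    rfl

end Groth.L15.CurveGlue
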